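import Groth.Agent.DescentBase.FpqcCover
import Groth.Agent.EtaleBase.FpqcDescent
import Groth.Agent.AlgSp2.SmoothDescent
import Mathlib.CategoryTheory.Monoidal.Cartesian.Over

/-!
Morphisms that are covering for the fpqc topology.
-/

set_option autoImplicit false
set_option backward.isDefEq.respectTransparency.types false

universe u

open CategoryTheory CategoryTheory.Limits AlgebraicGeometry MonoidalCategory CartesianMonoidalCategory

namespace Groth.QuotFpqc

/-- A singleton fpqc cover. -/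
def FCover {X Y : Scheme.{u}} (q : X ⟶ Y) : Prop := Presieve.singleton q ∈ Scheme.fpqcPrecoverage Y

/-- A morphism covering for the fpqc topology. -/
def Covering {X Y : Scheme.{u}} (p : X ⟶ Y) : Prop :=
  ∃ (Z : Scheme.{u}) (r : Z ⟶ X), FCover (r ≫ p)

variable {X Y Z : Scheme.{u}}

theorem fcover_of_qc (q : X ⟶ Y) [Flat q] [Surjective q]
    (h : ∀ V : Y.Opens, IsAffineOpen V → ∃ W : X.Opens, IsCompact (W : Set X) ∧
      q.base '' (W : Set X) = (V : Set Y)) : FCover q := by
  refine ⟨?_, (Scheme.singleton_mem_precoverage_iff @Flat q).2 ⟨q.surjective, ‹_›⟩⟩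
  rw [← Presieve.ofArrows_pUnit.{0}]
  let E : PreZeroHypercover.{0} Y := ⟨PUnit, fun _ => X, fun _ => q⟩
  show E.presieve₀ ∈ Scheme.qcPrecoverage Y
  rw [Scheme.presieve₀_mem_qcPrecoverage_iff]
  refine ⟨fun {U} hU => ?_⟩
  obtain ⟨W, hW, hWV⟩ := h U hU
  exact IsCompactOpenCovered.iff_of_unique.2 ⟨W, hW, hWV⟩

theorem Covering.surjective {p : X ⟶ Y} (hp : Covering p) : Surjective p := by
  obtain ⟨Z, r, hr⟩ := hp
  have : Surjective (r ≫ p) := ⟨((Scheme.singleton_mem_precoverage_iff @Flat _).1 hr.2).1⟩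
  exact Surjective.of_comp r p

theorem FCover.isPullback {q : X ⟶ Y} (hq : FCover q) {X' Y' : Scheme.{u}} {a : X' ⟶ X} {q' : X' ⟶ Y'}
    {b : Y' ⟶ Y} (h : IsPullback a q' q b) : FCover q' := by
  unfold FCover at hq ⊢
  rw [← Presieve.ofArrows_pUnit.{0}] at hq ⊢
  exact Precoverage.mem_coverings_of_isPullback (fun _ => q) hq b (fun _ => q') (fun _ => a) fun _ => h.flip

theorem FCover.comp {q : X ⟶ Y} (hq : FCover q) {q' : Z ⟶ X} (hq' : FCover q') : FCover (q' ≫ q) := by
  unfold FCover at hq hq' ⊢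
  rw [← Presieve.ofArrows_pUnit.{0}] at hq hq' ⊢
  have h := Scheme.fpqcPrecoverage.comp_mem_coverings (fun _ : PUnit.{1} => q) hq
    (σ := fun _ => PUnit.{1}) (Y := fun _ _ => Z) (fun _ _ => q') (fun _ => hq')
  convert h using 1
  funext T
  ext g
  constructor
  · rintro ⟨⟩; exact ⟨(⟨⟨⟩, ⟨⟩⟩ : Σ _ : PUnit.{1}, PUnit.{1})⟩
  · rintro ⟨⟨_, _⟩⟩; exact ⟨⟨⟩⟩

theorem Covering.isPullback {p : X ⟶ Y} (hp : Covering p) {X' Y' : Scheme.{u}} {a : X' ⟶ X}
    {p' : X' ⟶ Y'} {b : Y' ⟶ Y} (h : IsPullback a p' p b) : Covering p' := by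
  obtain ⟨Z, r, hr⟩ := hp
  let r' : pullback r a ⟶ X' := pullback.snd r a
  exact ⟨_, r', hr.isPullback ((IsPullback.of_hasPullback r a).paste_vert h)⟩

theorem Covering.comp {p : X ⟶ Y} (hp : Covering p) {p' : Z ⟶ X} (hp' : Covering p') :
    Covering (p' ≫ p) := by
  obtain ⟨W, r, hr⟩ := hp
  obtain ⟨W', r', hr'⟩ := hp'
  refine ⟨pullback (r' ≫ p') r, pullback.fst _ _ ≫ r', ?_⟩
  have e : (pullback.fst (r' ≫ p') r ≫ r') ≫ p' ≫ p = pullback.snd (r' ≫ p') r ≫ (r ≫ p) := by
    simp only [Category.assoc]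
    rw [← Category.assoc r', pullback.condition_assoc]
  rw [e]
  exact hr.comp (hr'.isPullback (IsPullback.of_hasPullback (r' ≫ p') r))

/-- The cover of a singleton fpqc covering. -/
noncomputable def FCover.cover {q : X ⟶ Y} (hq : FCover q) : Scheme.Cover.{0} Scheme.fpqcPrecoverage Y where
  I₀ := PUnit
  X _ := X
  f _ := q
  mem₀ := by
    show Presieve.ofArrows _ _ ∈ _
    rw [Presieve.ofArrows_pUnit]; exact hq

theorem FCover.descends (P : MorphismProperty Scheme.{u}) [IsZariskiLocalAtTarget P]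
    (hP : P.DescendsAlong Groth.DescentBase.SFQ) {X' : Scheme.{u}} {h : X' ⟶ Y} {q : X ⟶ Y}
    (hq : FCover q) (hh : P (pullback.snd h q)) : P h :=
  Groth.DescentBase.of_fpqcCover P hP h hq.cover fun _ => hh

theorem Covering.descends (P : MorphismProperty Scheme.{u}) [IsZariskiLocalAtTarget P]
    [P.IsStableUnderBaseChange] (hP : P.DescendsAlong Groth.DescentBase.SFQ) {X' : Scheme.{u}}
    {h : X' ⟶ Y} {p : X ⟶ Y} (hp : Covering p) (hh : P (pullback.snd h p)) : P h := by
  obtain ⟨Z, r, hr⟩ := hp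
  refine hr.descends P hP ?_
  let l : pullback h (r ≫ p) ⟶ pullback h p :=
    pullback.lift (pullback.fst _ _) (pullback.snd _ _ ≫ r) (by rw [pullback.condition, Category.assoc])
  have sq : IsPullback l (pullback.snd h (r ≫ p)) (pullback.snd h p) r := by
    refine IsPullback.of_right ?_ (pullback.lift_snd _ _ _) (IsPullback.of_hasPullback h p)
    rw [pullback.lift_fst]
    exact IsPullback.of_hasPullback h (r ≫ p)
  exact MorphismProperty.of_isPullback sq hh

theorem effectiveEpi_fcover {q : X ⟶ Y} (hq : FCover q) : EffectiveEpi q := by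
  rw [← Sieve.effectiveEpimorphic_singleton, Presieve.EffectiveEpimorphic.iff_forall_isSheafFor_yoneda]
  intro W
  exact (GrothendieckTopology.Subcanonical.isSheaf_of_isRepresentable _).isSheafFor _
    (Precoverage.generate_mem_toGrothendieck hq)

section Over

variable {S : Scheme.{u}} {A B C : Over S}

/-- Morphisms descend uniquely along coverings. -/
theorem Covering.cancel {p : A ⟶ B} (hp : Covering p.left) {f g : B ⟶ C} (h : p ≫ f = p ≫ g) : f = g := by
  obtain ⟨Z, r, hr⟩ := hp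
  have := effectiveEpi_fcover hr
  ext1
  rw [← cancel_epi (r ≫ p.left), Category.assoc, Category.assoc]
  exact congrArg (r ≫ ·) (congrArg CommaMorphism.left h)

theorem Covering.exists_desc {p : A ⟶ B} (hp : Covering p.left) (f : A ⟶ C)
    (hf : ∀ (T : Over S) (a b : T ⟶ A), a ≫ p = b ≫ p → a ≫ f = b ≫ f) : ∃ g : B ⟶ C, p ≫ g = f := by
  obtain ⟨Z, r, hr⟩ := hp
  have := effectiveEpi_fcover hr
  have hf' : ∀ {W : Scheme.{u}} (a b : W ⟶ A.left), a ≫ p.left = b ≫ p.left →
      a ≫ f.left = b ≫ f.left := by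
    intro W a b hab
    have hW : b ≫ A.hom = a ≫ A.hom := by
      rw [← Over.w p, ← Category.assoc, ← hab, Category.assoc]
    exact congr(($(hf (Over.mk (a ≫ A.hom)) (Over.homMk a rfl) (Over.homMk b hW)
      (by ext; exact hab))).left)
  let g := EffectiveEpi.desc (r ≫ p.left) (r ≫ f.left) fun a b h => by
    have := hf' (a ≫ r) (b ≫ r) (by simpa only [Category.assoc] using h)
    simpa only [Category.assoc] using this
  have hg : (r ≫ p.left) ≫ g = r ≫ f.left := EffectiveEpi.fac _ _ _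
  have hpg : p.left ≫ g = f.left := by
    have sq := IsPullback.of_hasPullback (r ≫ p.left) p.left
    have := effectiveEpi_fcover (hr.isPullback sq)
    rw [← cancel_epi (pullback.snd (r ≫ p.left) p.left), ← Category.assoc, ← sq.w, Category.assoc, hg,
      ← Category.assoc]
    exact hf' _ _ (by rw [Category.assoc]; exact sq.w)
  refine ⟨Over.homMk g ?_, Over.OverMorphism.ext hpg⟩
  rw [← cancel_epi (r ≫ p.left), ← Category.assoc, hg, Category.assoc, Category.assoc, Over.w f, Over.w p]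

theorem Covering.exists_lift {p : A ⟶ B} (hp : Covering p.left) {T : Over S} (y : T ⟶ B) :
    ∃ (T' : Over S) (c : T' ⟶ T) (x : T' ⟶ A), Covering c.left ∧ x ≫ p = c ≫ y := by
  refine ⟨Over.mk (pullback.snd p.left y.left ≫ T.hom), Over.homMk (pullback.snd _ _) rfl,
    Over.homMk (pullback.fst _ _) (by
      show pullback.fst p.left y.left ≫ A.hom = pullback.snd p.left y.left ≫ T.hom
      rw [← Over.w p, ← Over.w y, pullback.condition_assoc]), ?_, Over.OverMorphism.ext pullback.condition⟩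
  exact hp.isPullback (IsPullback.of_hasPullback p.left y.left)

theorem Covering.exists_lift₂ {p : A ⟶ B} (hp : Covering p.left) {T : Over S} (y z : T ⟶ B) :
    ∃ (T' : Over S) (c : T' ⟶ T) (a b : T' ⟶ A), Covering c.left ∧ a ≫ p = c ≫ y ∧ b ≫ p = c ≫ z := by
  obtain ⟨T₁, c₁, x₁, h₁, e₁⟩ := hp.exists_lift y
  obtain ⟨T₂, c₂, x₂, h₂, e₂⟩ := hp.exists_lift (c₁ ≫ z)
  exact ⟨T₂, c₂ ≫ c₁, c₂ ≫ x₁, x₂, h₁.comp h₂, by rw [Category.assoc, e₁, Category.assoc],
    by rw [e₂, Category.assoc]⟩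

theorem Covering.whiskerRight {p : A ⟶ B} (hp : Covering p.left) (W : Over S) : Covering (p ▷ W).left := by
  have h1 : (p ▷ W).left ≫ pullback.fst B.hom W.hom = pullback.fst A.hom W.hom ≫ p.left :=
    Over.whiskerRight_left_fst p
  have h2 : (p ▷ W).left ≫ pullback.snd B.hom W.hom = pullback.snd A.hom W.hom :=
    Over.whiskerRight_left_snd p
  have outer : IsPullback ((p ▷ W).left ≫ pullback.snd B.hom W.hom) (pullback.fst A.hom W.hom)
      W.hom (p.left ≫ B.hom) := by
    rw [h2, Over.w p]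
    exact (IsPullback.of_hasPullback A.hom W.hom).flip
  exact hp.isPullback (IsPullback.of_right outer h1 (IsPullback.of_hasPullback B.hom W.hom).flip).flip

theorem Covering.whiskerLeft {p : A ⟶ B} (hp : Covering p.left) (W : Over S) : Covering (W ◁ p).left := by
  have h1 : (W ◁ p).left ≫ pullback.fst W.hom B.hom = pullback.fst W.hom A.hom :=
    Over.whiskerLeft_left_fst p
  have h2 : (W ◁ p).left ≫ pullback.snd W.hom B.hom = pullback.snd W.hom A.hom ≫ p.left :=
    Over.whiskerLeft_left_snd p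
  have outer : IsPullback ((W ◁ p).left ≫ pullback.fst W.hom B.hom) (pullback.snd W.hom A.hom)
      W.hom (p.left ≫ B.hom) := by
    rw [h1, Over.w p]
    exact IsPullback.of_hasPullback W.hom A.hom
  exact hp.isPullback (IsPullback.of_right outer h2 (IsPullback.of_hasPullback W.hom B.hom)).flip

end Over

end Groth.QuotFpqc
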