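import Groth.Agent.QuotFpqc.Basic
import Mathlib.CategoryTheory.Monoidal.Cartesian.Grp_

/-!
Fpqc quotients by subgroups, presented by a covering with the translation as kernel pair.
-/

set_option autoImplicit false
set_option backward.isDefEq.respectTransparency false

universe u

open CategoryTheory CategoryTheory.Limits AlgebraicGeometry MonoidalCategory CartesianMonoidalCategory MonObj

namespace Groth.QuotFpqc

theorem covering_of_qc {X Y : Scheme.{u}} {p : X ⟶ Y}
    (hcov : ∃ (Z : Scheme.{u}) (q : Z ⟶ Y) (r : Z ⟶ X), r ≫ p = q ∧ Surjective q ∧ Flat q ∧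
      ∀ V : Y.Opens, IsAffineOpen V → ∃ W : Z.Opens, IsCompact (W : Set Z) ∧
        q.base '' (W : Set Z) = (V : Set Y)) : Covering p := by
  obtain ⟨Z, q, r, e, h1, h2, h3⟩ := hcov
  subst e
  exact ⟨Z, r, fcover_of_qc (r ≫ p) h3⟩

variable {S : Scheme.{u}} {G G' G'' : Over S} [GrpObj G] {u : G' ⟶ G} {p : G ⟶ G''}

section

variable (hsq : IsPullback ((G ◁ u) ≫ μ[G]) (fst G G') p p)
include hsq

/-- The kernel pair of `p` on points. -/
theorem point_iff {T : Over S} (a b : T ⟶ G) : a ≫ p = b ≫ p ↔ ∃ h : T ⟶ G', a = b * (h ≫ u) := by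
  constructor
  · intro h
    obtain ⟨l, hl1, hl2⟩ := hsq.exists_lift a b h
    refine ⟨l ≫ snd G G', ?_⟩
    rw [← hl1, ← hl2, Hom.mul_def, ← Category.assoc]
    congr 1
    ext <;> simp
  · rintro ⟨h, rfl⟩
    have := lift b h ≫= hsq.w
    rw [← Category.assoc, ← Category.assoc, ← Category.assoc, lift_whiskerLeft, lift_fst, ← Hom.mul_def] at this
    exact this

theorem unit_isPullback [Mono u] : IsPullback u (toUnit G') p (η[G] ≫ p) := by
  have e : ∀ T : Over S, toUnit T ≫ η[G] = (1 : T ⟶ G) := fun T => rfl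
  refine ⟨⟨by rw [← Category.assoc, e]; exact (point_iff hsq _ _).2 ⟨𝟙 _, by simp⟩⟩,
    ⟨PullbackCone.IsLimit.mk _ (fun s => ((point_iff hsq s.fst 1).1 ?_).choose) ?_ ?_ ?_⟩⟩
  · rw [s.condition, toUnit_unique s.snd (toUnit _), ← Category.assoc, e]
  · intro s
    have := ((point_iff hsq s.fst 1).1
      (by rw [s.condition, toUnit_unique s.snd (toUnit _), ← Category.assoc, e])).choose_spec
    rw [_root_.one_mul] at this
    exact this.symm
  · intro s; exact toUnit_unique _ _
  · intro s m h1 _
    rw [← cancel_mono u, h1]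
    have := ((point_iff hsq s.fst 1).1
      (by rw [s.condition, toUnit_unique s.snd (toUnit _), ← Category.assoc, e])).choose_spec
    rw [_root_.one_mul] at this
    exact this

end

/-- The graph of the translation is a base change of the monomorphism. -/
theorem graph_isPullback : IsPullback (lift ((G ◁ u) ≫ μ[G]) (fst G G')) (snd G G')
    ((snd G G)⁻¹ * fst G G) u := by
  refine ⟨⟨?_⟩, ⟨PullbackCone.IsLimit.mk _ (fun s => lift (s.fst ≫ snd G G) s.snd) ?_ ?_ ?_⟩⟩
  · rw [MonObj.comp_mul, GrpObj.comp_inv, lift_snd, lift_fst]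
    rw [show (G ◁ u) ≫ μ[G] = fst G G' * (snd G G' ≫ u) from by
      rw [Hom.mul_def]; congr 1]
    rw [inv_mul_cancel_left]
  · intro s
    have h := s.condition
    rw [MonObj.comp_mul, GrpObj.comp_inv] at h
    apply CartesianMonoidalCategory.hom_ext
    · rw [Category.assoc, lift_fst, ← Category.assoc, lift_whiskerLeft, ← Hom.mul_def, ← h,
        mul_inv_cancel_left]
    · rw [Category.assoc, lift_snd, lift_fst]
  · intro s; rw [lift_snd]
  · intro s m h1 h2
    apply CartesianMonoidalCategory.hom_ext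
    · rw [lift_fst, ← h1, Category.assoc, lift_snd]
    · rw [lift_snd, h2]

end Groth.QuotFpqc
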